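import Groth.Agent.AGF.K844.TorusI
import Groth.Agent.RedSub.K197.RadSplit
import Groth.Agent.Par.K545.Centre
import Groth.Agent.S4148
import Groth.Agent.S5529
import Groth.Agent.S5545
import Groth.Agent.S5550

/-!
# Critical subgroups of type (R)

`main`: a subgroup `H` of type (R) containing the torus of a splitting is reductive and critical iff its roots are the
roots which are integer combinations of a set of simple roots.
-/

set_option autoImplicit false
universe u

open CategoryTheory MonoidalCategory CartesianMonoidalCategory MonObj GrpObj AlgebraicGeometry Limits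

namespace K844.Critical

open Groth.Agent Groth.Agent.Sga3B K197.RadLat K197.RadSplit TorusI

section Comb

/-- Functionals which do not vanish on given elements. -/
theorem exists_functional {J M' : Type*} [Finite J] [AddCommGroup M'] [Module.Free ℤ M'] (v : J → M')
    (hv : ∀ i, v i ≠ 0) : ∃ f : M' →+ ℤ, ∀ i, f (v i) ≠ 0 := by
  classical
  have : Fintype J := Fintype.ofFinite J
  suffices h : ∀ s : Finset J, ∃ f : M' →+ ℤ, ∀ i ∈ s, f (v i) ≠ 0 by
    obtain ⟨f, hf⟩ := h Finset.univ
    exact ⟨f, fun i => hf i (Finset.mem_univ i)⟩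
  intro s
  induction s using Finset.induction_on with
  | empty => exact ⟨0, by simp⟩
  | insert i s _ ih =>
    obtain ⟨f, hf⟩ := ih
    obtain ⟨g, hg⟩ : ∃ g : Module.Dual ℤ M', g (v i) ≠ 0 := by
      by_contra h
      push Not at h
      exact hv i ((Module.forall_dual_apply_eq_zero_iff ℤ (v i)).1 h)
    let N : ℤ := 1 + ∑ j, |g (v j)|
    have hN : ∀ j, |g (v j)| < N := fun j => by
      have := Finset.single_le_sum (f := fun j => |g (v j)|) (fun j _ => abs_nonneg _) (Finset.mem_univ j)
      simp only [N]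
      omega
    refine ⟨N • f + g.toAddMonoidHom, fun j hj => ?_⟩
    have e : (N • f + g.toAddMonoidHom) (v j) = N * f (v j) + g (v j) := by
      simp
    rw [e]
    have h1 := hN j
    have hNpos : 0 < N := lt_of_le_of_lt (abs_nonneg _) h1
    by_cases h0 : f (v j) = 0
    · rcases Finset.mem_insert.1 hj with rfl | hj
      · rw [h0, mul_zero, zero_add]
        exact hg
      · exact absurd h0 (hf j hj)
    · intro h2
      have h3 : |N * f (v j)| = |g (v j)| := by
        rw [show N * f (v j) = -g (v j) by omega, abs_neg]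
      rw [abs_mul, abs_of_pos hNpos] at h3
      have h4 : 1 ≤ |f (v j)| := Int.one_le_abs h0
      nlinarith

variable {idx M : Type} [Fintype idx] [AddCommGroup M] [Module.Free ℤ M]
    [Module.Finite ℤ M] {P : RootPairing idx ℤ M (Module.Dual ℤ M)} [P.IsReduced]

/-- **A base adapted to a functional.** -/
theorem exists_base_of_functional (x : M →+ ℤ) : ∃ b : P.Base, ∀ a,
    x (P.root a) = 0 ↔ P.root a ∈ Submodule.span ℤ (P.root '' {c | c ∈ b.support ∧ x (P.root c) = 0}) := by
  classical
  obtain ⟨y, hy⟩ := exists_functional (fun a => P.root a) (fun a => P.ne_zero a)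
  let N : ℤ := 1 + ∑ j, |y (P.root j)|
  have hN : ∀ j, |y (P.root j)| < N := fun j => by
    have := Finset.single_le_sum (f := fun j => |y (P.root j)|) (fun j _ => abs_nonneg _) (Finset.mem_univ j)
    simp only [N]
    omega
  let z : M →+ ℤ := N • x + y
  have hz : ∀ a, z (P.root a) = N * x (P.root a) + y (P.root a) := fun a => by simp [z]
  have hsign : ∀ a, 0 < z (P.root a) → 0 ≤ x (P.root a) := by
    intro a h
    by_contra h0
    rw [hz] at h
    have h1 := (abs_lt.1 (hN a)).2
    have hNpos : 0 < N := lt_of_le_of_lt (abs_nonneg _) (hN a)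
    have h2 : N * x (P.root a) ≤ N * (-1) := mul_le_mul_of_nonneg_left (by omega) hNpos.le
    omega
  obtain ⟨b, hb⟩ := BaseZ.exists_base_isPos P z (fun a h => by
    rw [hz] at h
    have h1 := hN a
    have hNpos : 0 < N := lt_of_le_of_lt (abs_nonneg _) h1
    by_cases h0 : x (P.root a) = 0
    · rw [h0, mul_zero, zero_add] at h
      exact hy a h
    · have h3 : |N * x (P.root a)| = |y (P.root a)| := by
        rw [show N * x (P.root a) = -y (P.root a) by omega, abs_neg]
      rw [abs_mul, abs_of_pos hNpos] at h3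
      have h4 : 1 ≤ |x (P.root a)| := Int.one_le_abs h0
      nlinarith)
  refine ⟨b, fun a => ⟨fun h => ?_, fun h => ?_⟩⟩
  · -- positive roots
    have key : ∀ a, b.IsPos a → x (P.root a) = 0 →
        P.root a ∈ Submodule.span ℤ (P.root '' {c | c ∈ b.support ∧ x (P.root c) = 0}) := by
      intro a ha h
      obtain ⟨f, hf0, hf1, hf2⟩ := b.exists_root_eq_sum_int a
      have hfpos : 0 < f := by
        refine hf1.resolve_right fun h => ?_
        rw [RootPairing.Base.isPos_iff, RootPairing.Base.height_eq_sum hf2] at ha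
        exact absurd ha (not_lt.mpr (Finset.sum_nonpos fun j _ => h.le j))
      have hterm : ∀ j ∈ b.support, 0 ≤ f j * x (P.root j) := fun j hj =>
        mul_nonneg (hfpos.le j) (hsign j ((hb j).1 (b.isPos_of_mem_support hj)))
      have hsum : x (P.root a) = ∑ j ∈ b.support, f j * x (P.root j) := by
        rw [hf2, map_sum]
        exact Finset.sum_congr rfl fun j _ => by rw [map_zsmul, smul_eq_mul]
      rw [hsum, Finset.sum_eq_zero_iff_of_nonneg hterm] at h
      rw [hf2]
      refine Submodule.sum_mem _ fun j hj => ?_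
      rcases mul_eq_zero.1 (h j hj) with h4 | h4
      · rw [h4, zero_smul]; exact Submodule.zero_mem _
      · exact Submodule.smul_mem _ _ (Submodule.subset_span ⟨j, ⟨hj, h4⟩, rfl⟩)
    by_cases hc : b.IsPos a
    · exact key a hc h
    · have hneg : b.IsPos (P.reflectionPerm a a) := (RootPairing.Base.IsPos.neg_iff_not b a).2 hc
      have hroot : P.root (P.reflectionPerm a a) = - P.root a := by simp
      have h4 := key _ hneg (by rw [hroot, map_neg, h, neg_zero])
      rw [hroot] at h4
      exact (Submodule.neg_mem_iff _).1 h4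
  · have key : ∀ m ∈ Submodule.span ℤ (P.root '' {c | c ∈ b.support ∧ x (P.root c) = 0}), x m = 0 := by
      intro m hm
      induction hm using Submodule.span_induction with
      | mem m hm => obtain ⟨c, ⟨-, hc⟩, rfl⟩ := hm; exact hc
      | zero => exact map_zero _
      | add m m' _ _ h h' => rw [map_add, h, h', add_zero]
      | smul n m _ h => rw [map_zsmul, h, smul_zero]
    exact key _ h

end Comb

section Group

variable {S : Scheme.{u}} {G H : Over S} [GrpObj G] [GrpObj H] (D : Red.SplitRed G) (h : H ⟶ G) (t : D.T ⟶ H)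
  (ht : t ≫ h = D.i) {R' : Set D.idx} (D' : Red.SplitRed H) (e : D'.T ≅ D.T) (eidx : D'.idx ≃ ↥R') (em : D'.M ≃+ D.M)
  (h1 : D'.i = e.hom ≫ t)
  (h2 : e.hom ≫ D.split.hom.hom.hom = D'.split.hom.hom.hom ≫ Red.DSmap S em.symm.toAddMonoidHom)
  (h3 : ∀ a' : D'.idx, em (D'.P.root a') = D.P.root (eidx a' : D.idx))

/-- The projection of `M` onto the characters of the radical of `H`. -/
def phi : D.M →+ D'.M ⧸ PP D'.P := (QuotientAddGroup.mk' (PP D'.P)).comp em.symm.toAddMonoidHom

lemma phi_surjective : Function.Surjective (phi D D' em) :=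
  (QuotientAddGroup.mk'_surjective _).comp em.symm.surjective

include ht h1 h2 in
/-- The radical of `H` in `G`. -/
lemma radI_comp : radI D' ≫ h = qT D (phi D D' em) := by
  have e1 : D'.split.inv.hom.hom ≫ e.hom = Red.DSmap S em.symm.toAddMonoidHom ≫ D.split.inv.hom.hom := by
    have e2 : D'.split.inv.hom.hom ≫ e.hom ≫ D.split.hom.hom.hom = Red.DSmap S em.symm.toAddMonoidHom := by
      rw [h2, ← Category.assoc, IsomCore.inv_hom_id, Category.id_comp]
    rw [← e2, Category.assoc, Category.assoc, IsomCore.hom_inv_id, Category.comp_id]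
  rw [radI, h1, phi, qT, ← PinTransport.DSmap_comp]
  simp only [Category.assoc]
  rw [ht, ← Category.assoc D'.split.inv.hom.hom, e1, Category.assoc]

include h3 in
lemma phi_eq_zero_iff (m : D.M) : phi D D' em m = 0 ↔ ∃ k : ℤ, k ≠ 0 ∧ k • m ∈ Submodule.span ℤ (D.P.root '' R') := by
  have e1 : phi D D' em m = 0 ↔ em.symm m ∈ PP D'.P := QuotientAddGroup.eq_zero_iff _
  have e2 : ∀ x : D'.M, x ∈ QQ D'.P ↔ em x ∈ Submodule.span ℤ (D.P.root '' R') := by
    intro x
    have e3 : Submodule.map (em.toIntLinearEquiv : D'.M →ₗ[ℤ] D.M) (Submodule.span ℤ (Set.range D'.P.root)) =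
        Submodule.span ℤ (D.P.root '' R') := by
      rw [Submodule.map_span]
      congr 1
      ext y
      constructor
      · rintro ⟨_, ⟨a', rfl⟩, rfl⟩
        exact ⟨eidx a', (eidx a').2, (h3 a').symm⟩
      · rintro ⟨a, ha, rfl⟩
        refine ⟨_, ⟨eidx.symm ⟨a, ha⟩, rfl⟩, ?_⟩
        change em (D'.P.root (eidx.symm ⟨a, ha⟩)) = _
        rw [h3, Equiv.apply_symm_apply]
    rw [← e3]
    constructor
    · intro hx
      exact ⟨x, hx, rfl⟩
    · rintro ⟨y, hy, hy'⟩
      have : y = x := em.injective hy'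
      rw [← this]
      exact hy
  rw [e1, mem_PP]
  refine exists_congr fun k => and_congr_right fun _ => ?_
  rw [e2, map_zsmul, AddEquiv.apply_symm_apply]

/-- Centralizers depend only on the subgroup. -/
lemma isCentralizerOf_iff_of_iso {A B C : Over S} [GrpObj C] (w : A ⟶ B) [IsIso w] (a : A ⟶ G) (b : B ⟶ G)
    (hw : w ≫ b = a) (c : C ⟶ G) : Red.IsCentralizerOf a c ↔ Red.IsCentralizerOf b c := by
  have key : ∀ (X : Over S) (g : X ⟶ G), (∀ (X' : Over S) (x : X' ⟶ X) (z : X' ⟶ A),
      (x ≫ g) * (z ≫ a) = (z ≫ a) * (x ≫ g)) ↔ ∀ (X' : Over S) (x : X' ⟶ X) (z : X' ⟶ B),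
      (x ≫ g) * (z ≫ b) = (z ≫ b) * (x ≫ g) := by
    intro X g
    constructor
    · intro h X' x z
      have := h X' x (z ≫ inv w)
      rwa [← hw, Category.assoc, IsIso.inv_hom_id_assoc] at this
    · intro h X' x z
      have := h X' x (z ≫ w)
      rwa [Category.assoc, hw] at this
  rw [Red.IsCentralizerOf, Red.IsCentralizerOf]
  simp only [key]

variable [ConnectedSpace S]

include ht in
/-- **Critical subgroups.** -/
theorem main (hH : _root_.RedSub.IsTypeR h)
    (hR' : ∀ a : D.idx, (∃ v : Red.Ga S ⟶ H, v ≫ h = D.u a) ↔ a ∈ R') :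
    (Red.IsReductive H ∧ ∀ (ZH RH : Over S) [GrpObj ZH] [GrpObj RH] (jH : ZH ⟶ H) (rH : RH ⟶ ZH),
        Red.IsCentre jH → Red.IsMaximalTorus rH → Red.IsCentralizerOf (rH ≫ jH ≫ h) h) ↔
      ∃ (b : D.P.Base) (Δ' : Set D.idx), Δ' ⊆ (b.support : Set D.idx) ∧
        R' = {a : D.idx | D.P.root a ∈ Submodule.span ℤ (D.P.root '' Δ')} := by
  have hred := SplitReduced415.isReduced D
  have hmono : Mono h := by
    have := hH.1.2
    exact Over.mono_of_mono_left h
  constructor
  · rintro ⟨hHred, hcrit⟩
    have hsymm := (Groth.Agent.S5529.result D h hH t ht R' hR').1.1 hHred.2.2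
    obtain ⟨D', e, eidx, em, h1, h2, h3, -⟩ := Groth.Agent.S5545.result D h hH t ht R' hR' hsymm
    obtain ⟨Z, _, j, hZ, -, hZm⟩ := K545.Centre.exists_centre hHred
    obtain ⟨RH, _, r, hr, -⟩ := Groth.Agent.S4148.result S Z hZm
    have hcent := hcrit Z RH j r hZ hr
    obtain ⟨w, hw, -, hw'⟩ := rad_iso D' j hZ r hr
    have hq := (isCentralizerOf_iff_of_iso w (r ≫ j ≫ h) (qT D (phi D D' em)) (by
      rw [← radI_comp D h t ht D' e em h1 h2, ← Category.assoc, hw', Category.assoc]) h).1 hcent
    have hroot : ∀ a, a ∈ R' ↔ phi D D' em (D.P.root a) = 0 := fun a => by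
      rw [← hR', exists_u_iff D _ hq]
    obtain ⟨f, hf⟩ := exists_functional (fun a : {a : D.idx // a ∉ R'} => phi D D' em (D.P.root a))
      (fun a h0 => a.2 ((hroot _).2 h0))
    obtain ⟨b, hb⟩ := exists_base_of_functional (P := D.P) (f.comp (phi D D' em))
    refine ⟨b, {c | c ∈ b.support ∧ (f.comp (phi D D' em)) (D.P.root c) = 0}, fun c hc => hc.1, ?_⟩
    ext a
    rw [Set.mem_ofPred_eq, ← hb]
    constructor
    · intro ha
      change f (phi D D' em (D.P.root a)) = 0
      rw [(hroot a).1 ha, map_zero]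
    · intro ha
      by_contra h0
      exact hf ⟨a, h0⟩ ha
  · rintro ⟨b, Δ', hΔ, rfl⟩
    have hsymm : ∀ a ∈ {a : D.idx | D.P.root a ∈ Submodule.span ℤ (D.P.root '' Δ')},
        D.P.reflectionPerm a a ∈ {a : D.idx | D.P.root a ∈ Submodule.span ℤ (D.P.root '' Δ')} := by
      intro a ha
      change D.P.root _ ∈ Submodule.span ℤ (D.P.root '' Δ')
      rw [D.P.root_reflectionPerm, D.P.reflection_apply_self]
      exact Submodule.neg_mem _ ha
    have hHred := (Groth.Agent.S5529.result D h hH t ht _ hR').2 hsymm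
    refine ⟨hHred, fun Z RH _ _ j r hZ hr => ?_⟩
    obtain ⟨D', e, eidx, em, h1, h2, h3, -⟩ := Groth.Agent.S5545.result D h hH t ht _ hR' hsymm
    obtain ⟨w, hw, -, hw'⟩ := rad_iso D' j hZ r hr
    refine (isCentralizerOf_iff_of_iso w (r ≫ j ≫ h) (qT D (phi D D' em)) (by
      rw [← radI_comp D h t ht D' e em h1 h2, ← Category.assoc, hw', Category.assoc]) h).2 ?_
    have hqm := isMonHom_qT D (phi D D' em)
    have hqmono := mono_qT D (phi D D' em) (phi_surjective D D' em)
    obtain ⟨L, _, l, hl, hlR, -⟩ := Groth.Agent.S5550.result D.reductive (qT D (phi D D' em)) (isTorus_DS S _)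
    obtain ⟨tL, htL⟩ := exists_t D _ hl
    obtain ⟨f, hf⟩ := RedSub.H635.Uniq.exists_iso D h l t tL hH hlR ht htL fun a => by
      rw [hR', exists_u_iff D _ hl, phi_eq_zero_iff D D' eidx em h3]
      constructor
      · intro ha
        exact ⟨1, one_ne_zero, by rw [one_smul]; exact Submodule.subset_span ⟨a, ha, rfl⟩⟩
      · rintro ⟨k, hk, hk'⟩
        refine SimpleSub.mem_span_of_smul_mem b hΔ hk ?_
        have hle : Submodule.span ℤ (D.P.root '' {a : D.idx | D.P.root a ∈ Submodule.span ℤ (D.P.root '' Δ')}) ≤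
            Submodule.span ℤ (D.P.root '' Δ') := by
          rw [Submodule.span_le]
          rintro _ ⟨c, hc, rfl⟩
          exact hc
        exact hle hk'
    refine ⟨hH.1.1, hmono, fun X g => ?_⟩
    rw [← hl.2.2]
    constructor
    · rintro ⟨z, rfl⟩
      exact ⟨z ≫ f.hom, by rw [Category.assoc, hf]⟩
    · rintro ⟨z, rfl⟩
      exact ⟨z ≫ f.inv, by rw [← hf, Category.assoc, Iso.inv_hom_id_assoc]⟩

end Group

end K844.Critical
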